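import Cfsg.Agent.Lib.BasicSteiner.SearchFix

/-!
# The search certificate with fixed base labels for the Steiner systems S(4, 5, 11)
-/

set_option autoImplicit false
set_option maxRecDepth 100000

namespace Cfsg.Agent.Lib.BasicSteiner.WittFix.F4511

open Cfsg.Agent.Lib.BasicSteiner.Search Cfsg.Agent.Lib.BasicSteiner.SearchFix

/-- The blocks of the model, as masks. -/
def refList : List ℕ := [976, 1840, 1264, 1736, 1448, 872, 1368, 696, 1476, 932, 1636, 1684, 372, 1804, 236, 412, 604, 1084, 1858, 1698, 482, 1426, 626, 906, 1130, 1562, 218, 314, 710, 1318, 1110, 790, 182, 1166, 334, 558, 1921, 1377, 737, 1617, 433, 457, 1177, 793, 1577, 121, 837, 1189, 1301, 213, 565, 1101, 653, 301, 1219, 659, 339, 803, 1075, 1291, 1543, 587, 391, 171, 103, 31]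

/-- The search tree. -/
def cert : FTree := (.pick 15 (.cons 15 (.newpt (.pick 39 (.cons 39 (.pick 43 (.cons 43 (.pick 135 (.cons 135 (.pick 75 (.cons 75 (.pick 519 (.cons 519 (.pick 267 (.cons 1291 (.pick 1059 (.cons 1075 (.pick 291 (.cons 803 (.pick 275 (.cons 339 (.pick 147 (.cons 659 (.pick 195 (.cons 1219 (.pick 45 (.cons 301 (.pick 525 (.cons 653 (.pick 77 (.cons 1101 (.pick 549 (.cons 565 (.pick 85 (.cons 213 (.pick 277 (.cons 1301 (.pick 165 (.cons 1189 (.pick 325 (.cons 837 (.pick 57 (.cons 121 (.pick 553 (.cons 1577 (.pick 537 (.cons 793 (.pick 153 (.cons 1177 (.pick 201 (.cons 457 (.pick 177 (.cons 433 (.pick 593 (.cons 1617 (.pick 225 (.cons 737 (.pick 353 (.cons 1377 (.pick 897 (.cons 1921 (.pick 46 (.cons 558 (.pick 270 (.cons 334 (.pick 142 (.cons 1166 (.pick 150 (.cons 182 (.pick 278 (.cons 790 (.pick 86 (.cons 1110 (.pick 294 (.cons 1318 (.pick 198 (.cons 710 (.pick 58 (.cons 314 (.pick 90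 (.cons 218 (.pick 538 (.cons 1562 (.pick 106 (.cons 1130 (.pick 394 (.cons 906 (.pick 114 (.cons 626 (.pick 402 (.cons 1426 (.pick 226 (.cons 482 (.pick 674 (.cons 1698 (.pick 834 (.cons 1858 (.pick 60 (.cons 1084 (.pick 92 (.cons 604 (.pick 156 (.cons 412 (.pick 108 (.cons 236 (.pick 780 (.cons 1804 (.pick 116 (.cons 372 (.pick 660 (.cons 1684 (.pick 612 (.cons 1636 (.pick 420 (.cons 932 (.pick 452 (.cons 1476 (.pick 184 (.cons 696 (.pick 344 (.cons 1368 (.pick 360 (.cons 872 (.pick 424 (.cons 1448 (.pick 712 (.cons 1736 (.pick 240 (.cons 1264 (.pick 816 (.cons 1840 (.pick 464 (.cons 976 (.leaf [0,1,2,3,4,5,6,7,8,9,10]) .nil)) .nil)) .nil)) .nil)) .nil)) .nil)) .nil)) .nil)) .nil)) .nil)) .nil)) .nil)) .nil)) .nil)) .nil)) .nil)) .nil)) .nil)) .nil)) .nil)) .nil)) .nil)) .nil)) .nil)) .nil)) .nil)) .nil)) .nil)) .nil)) .nil)) .nil)) .nil)) .nil)) .nil)) .nil)) (.cons 1070 (.pick 142 (.cons 206 (.pick 270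 (.cons 782 (.pick 278 (.cons 310 (.pick 150 (.cons 1174 (.pick 86 (.cons 598 (.pick 166 (.cons 678 (.pick 326 (.cons 1350 (.pick 58 (.cons 570 (.pick 90 (.cons 1114 (.pick 154 (.cons 410 (.pick 106 (.cons 362 (.pick 650 (.cons 1674 (.pick 114 (.cons 242 (.pick 786 (.cons 1810 (.pick 610 (.cons 1634 (.pick 418 (.cons 1442 (.pick 450 (.cons 962 (.pick 60 (.cons 188 (.pick 92 (.cons 348 (.pick 540 (.cons 1564 (.pick 108 (.cons 620 (.pick 396 (.cons 1420 (.pick 116 (.cons 1140 (.pick 404 (.cons 916 (.pick 228 (.cons 484 (.pick 804 (.cons 1828 (.pick 708 (.cons 1732 (.pick 312 (.cons 1336 (.pick 216 (.cons 728 (.pick 232 (.cons 1256 (.pick 424 (.cons 936 (.pick 840 (.cons 1864 (.pick 368 (.cons 880 (.pick 688 (.cons 1712 (.pick 464 (.cons 1488 (.leaf [0,1,2,3,4,6,5,9,10,7,8]) .nil)) .nil)) .nil)) .nil)) .nil)) .nil)) .nil)) .nil)) .nil)) .nil)) .nil)) .nil)) .nil)) .nil)) .nil)) .nil)) .nil)) .nil)) .nil)) .nil))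 .nil)) .nil)) .nil)) .nil)) .nil)) .nil)) .nil)) .nil)) .nil)) .nil)) .nil)) .nil)) .nil)) .nil)) .nil)) .nil))) .nil)) .nil)) .nil)) .nil)) .nil)) .nil)) .nil)) .nil)) .nil)) .nil)) .nil)) .nil)) .nil)) .nil)) .nil)) .nil)) .nil)) (.cons 557 (.pick 269 (.cons 333 (.pick 141 (.cons 1165 (.pick 165 (.cons 181 (.pick 293 (.cons 1317 (.pick 277 (.cons 789 (.pick 85 (.cons 1109 (.pick 197 (.cons 709 (.pick 537 (.cons 1561 (.pick 297 (.cons 313 (.pick 89 (.cons 217 (.pick 105 (.cons 1129 (.pick 393 (.cons 905 (.pick 113 (.cons 625 (.pick 401 (.cons 1425 (.pick 225 (.cons 481 (.pick 673 (.cons 1697 (.pick 833 (.cons 1857 (.pick 46 (.cons 302 (.pick 526 (.cons 654 (.pick 78 (.cons 1102 (.pick 54 (.cons 566 (.pick 86 (.cons 214 (.pick 278 (.cons 1302 (.pick 166 (.cons 1190 (.pick 326 (.cons 838 (.pick 58 (.cons 122 (.pick 538 (.cons 794 (.pick 154 (.cons 1178 (.pick 554 (.cons 1578 (.pick 202 (.cons 458 (.pick 178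 (.cons 434 (.pick 594 (.cons 1618 (.pick 226 (.cons 738 (.pick 354 (.cons 1378 (.pick 898 (.cons 1922 (.pick 60 (.cons 1084 (.pick 92 (.cons 604 (.pick 156 (.cons 412 (.pick 108 (.cons 236 (.pick 780 (.cons 1804 (.pick 116 (.cons 372 (.pick 660 (.cons 1684 (.pick 612 (.cons 1636 (.pick 420 (.cons 932 (.pick 452 (.cons 1476 (.pick 184 (.cons 696 (.pick 344 (.cons 1368 (.pick 360 (.cons 872 (.pick 424 (.cons 1448 (.pick 712 (.cons 1736 (.pick 240 (.cons 1264 (.pick 816 (.cons 1840 (.pick 464 (.cons 976 (.leaf [0,1,2,3,4,10,9,8,7,6,5]) .nil)) .nil)) .nil)) .nil)) .nil)) .nil)) .nil)) .nil)) .nil)) .nil)) .nil)) .nil)) .nil)) .nil)) .nil)) .nil)) .nil)) .nil)) .nil)) .nil)) .nil)) .nil)) .nil)) .nil)) .nil)) .nil)) .nil)) .nil)) .nil)) .nil)) .nil)) .nil)) .nil)) .nil)) .nil)) (.cons 1070 (.pick 78 (.cons 206 (.pick 270 (.cons 782 (.pick 86 (.cons 598 (.pick 54 (.cons 310 (.pick 150 (.cons 1174 (.pick 166 (.cons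 678 (.pick 326 (.cons 1350 (.pick 154 (.cons 410 (.pick 538 (.cons 570 (.pick 90 (.cons 1114 (.pick 106 (.cons 362 (.pick 650 (.cons 1674 (.pick 114 (.cons 242 (.pick 786 (.cons 1810 (.pick 610 (.cons 1634 (.pick 418 (.cons 1442 (.pick 450 (.cons 962 (.pick 60 (.cons 124 (.pick 156 (.cons 668 (.pick 284 (.cons 1308 (.pick 172 (.cons 428 (.pick 588 (.cons 1612 (.pick 564 (.cons 1588 (.pick 212 (.cons 468 (.pick 228 (.cons 1252 (.pick 356 (.cons 868 (.pick 900 (.cons 1924 (.pick 184 (.cons 1208 (.pick 344 (.cons 856 (.pick 232 (.cons 744 (.pick 808 (.cons 1832 (.pick 456 (.cons 1480 (.pick 368 (.cons 1392 (.pick 432 (.cons 944 (.pick 720 (.cons 1744 (.leaf [0,1,2,3,4,9,10,6,5,8,7]) .nil)) .nil)) .nil)) .nil)) .nil)) .nil)) .nil)) .nil)) .nil)) .nil)) .nil)) .nil)) .nil)) .nil)) .nil)) .nil)) .nil)) .nil)) .nil)) .nil)) .nil)) .nil)) .nil)) .nil)) .nil)) .nil)) .nil)) .nil)) .nil)) .nil)) .nil)) .nil)) .nil))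 .nil)) .nil)) .nil))) .nil)) .nil)) .nil)) .nil)) .nil)) .nil)) .nil)) .nil)) .nil)) .nil)) .nil)) .nil)) .nil)) .nil)) .nil)) .nil)) .nil)) (.cons 1069 (.pick 293 (.cons 309 (.pick 533 (.cons 597 (.pick 149 (.cons 1173 (.pick 165 (.cons 677 (.pick 141 (.cons 205 (.pick 269 (.cons 781 (.pick 325 (.cons 1349 (.pick 153 (.cons 409 (.pick 297 (.cons 361 (.pick 57 (.cons 569 (.pick 89 (.cons 1113 (.pick 649 (.cons 1673 (.pick 113 (.cons 241 (.pick 785 (.cons 1809 (.pick 609 (.cons 1633 (.pick 417 (.cons 1441 (.pick 449 (.cons 961 (.pick 46 (.cons 302 (.pick 78 (.cons 1102 (.pick 142 (.cons 654 (.pick 86 (.cons 214 (.pick 54 (.cons 566 (.pick 278 (.cons 1302 (.pick 166 (.cons 1190 (.pick 326 (.cons 838 (.pick 58 (.cons 122 (.pick 154 (.cons 1178 (.pick 282 (.cons 794 (.pick 554 (.cons 1578 (.pick 202 (.cons 458 (.pick 178 (.cons 434 (.pick 594 (.cons 1618 (.pick 226 (.cons 738 (.pick 354 (.cons 1378 (.pick 898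 (.cons 1922 (.pick 60 (.cons 188 (.pick 92 (.cons 348 (.pick 540 (.cons 1564 (.pick 108 (.cons 620 (.pick 396 (.cons 1420 (.pick 116 (.cons 1140 (.pick 404 (.cons 916 (.pick 228 (.cons 484 (.pick 804 (.cons 1828 (.pick 708 (.cons 1732 (.pick 312 (.cons 1336 (.pick 216 (.cons 728 (.pick 232 (.cons 1256 (.pick 424 (.cons 936 (.pick 840 (.cons 1864 (.pick 368 (.cons 880 (.pick 688 (.cons 1712 (.pick 464 (.cons 1488 (.leaf [0,1,2,3,4,8,7,10,9,5,6]) .nil)) .nil)) .nil)) .nil)) .nil)) .nil)) .nil)) .nil)) .nil)) .nil)) .nil)) .nil)) .nil)) .nil)) .nil)) .nil)) .nil)) .nil)) .nil)) .nil)) .nil)) .nil)) .nil)) .nil)) .nil)) .nil)) .nil)) .nil)) .nil)) .nil)) .nil)) .nil)) .nil)) .nil)) .nil)) (.cons 558 (.pick 142 (.cons 1166 (.pick 78 (.cons 334 (.pick 54 (.cons 182 (.pick 86 (.cons 1110 (.pick 278 (.cons 790 (.pick 294 (.cons 1318 (.pick 198 (.cons 710 (.pick 154 (.cons 218 (.pick 58 (.cons 314 (.pick 538 (.cons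 1562 (.pick 106 (.cons 1130 (.pick 394 (.cons 906 (.pick 114 (.cons 626 (.pick 402 (.cons 1426 (.pick 226 (.cons 482 (.pick 674 (.cons 1698 (.pick 834 (.cons 1858 (.pick 60 (.cons 124 (.pick 156 (.cons 668 (.pick 284 (.cons 1308 (.pick 172 (.cons 428 (.pick 588 (.cons 1612 (.pick 564 (.cons 1588 (.pick 212 (.cons 468 (.pick 228 (.cons 1252 (.pick 356 (.cons 868 (.pick 900 (.cons 1924 (.pick 184 (.cons 1208 (.pick 344 (.cons 856 (.pick 232 (.cons 744 (.pick 808 (.cons 1832 (.pick 456 (.cons 1480 (.pick 368 (.cons 1392 (.pick 432 (.cons 944 (.pick 720 (.cons 1744 (.leaf [0,1,2,3,4,7,8,5,6,10,9]) .nil)) .nil)) .nil)) .nil)) .nil)) .nil)) .nil)) .nil)) .nil)) .nil)) .nil)) .nil)) .nil)) .nil)) .nil)) .nil)) .nil)) .nil)) .nil)) .nil)) .nil)) .nil)) .nil)) .nil)) .nil)) .nil)) .nil)) .nil)) .nil)) .nil)) .nil)) .nil)) .nil)) .nil)) .nil)) .nil))) .nil)) .nil)) .nil)) .nil)) .nil)) .nil)) .nil)) .nil)) .nil)) .nil))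 .nil)) .nil)) .nil)) .nil)) .nil)) .nil)) .nil)) .nil)))) .nil)) .nil)) .nil)) .nil)) .nil)) .nil)) .nil)) (.cons 331 (.pick 51 (.cons 51 (.pick 519 (.cons 519 (.pick 523 .nil) .nil)) (.cons 307 (.pick 83 (.cons 83 (.pick 519 (.cons 519 (.pick 523 .nil) .nil)) (.cons 211 (.pick 45 (.cons 45 (.pick 519 (.cons 519 (.pick 523 .nil) .nil)) (.cons 301 (.pick 46 (.cons 46 (.pick 519 (.cons 519 (.pick 523 .nil) .nil)) .nil)) .nil))) .nil))) .nil))) .nil))) .nil)) .nil)) .nil))) .nil))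

theorem chk_cert : chkF 11 4 5 14 3 4 refList cert 4 [] = true := by decide +kernel

theorem ref_nodup : refList.Nodup := by decide +kernel

theorem ref_lt : ∀ x ∈ refList, x < 2 ^ 11 := by decide +kernel

theorem ref_card : refList.length * Nat.choose 5 4 = Nat.choose 11 4 := by decide +kernel

theorem rigid : rigidCheck 11 4 refList = true := by decide +kernel

variable {α : Type*} [DecidableEq α] [Fintype α] {B : Set (Finset α)}

theorem sharp (hα : Fintype.card α = 11) (hB : Cfsg.IsSteinerSystem 4 5 B)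
    (hI : ∀ b ∈ B, ∀ c ∈ B, b ≠ c → allowedB 14 (b ∩ c).card = true) :
    MulAction.IsMultiplyPretransitive (Cfsg.setSystemAut B) α 4 ∧
      ∀ x : Fin 4 ↪ α, MulAction.stabilizer (Cfsg.setSystemAut B) x = ⊥ :=
  sharp_of_chk hα (by norm_num) (by norm_num) (by norm_num) hB hI (allowed_le (by norm_num)) (by decide +kernel) ref_card ref_nodup
    ref_lt (tr := cert) rfl chk_cert rigid

end Cfsg.Agent.Lib.BasicSteiner.WittFix.F4511
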