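import Cfsg.Agent.Lib.BasicSteiner.SearchFix

/-!
# The search certificate with fixed base labels for the Steiner systems S(5, 6, 12)
-/

set_option autoImplicit false
set_option maxRecDepth 100000

namespace Cfsg.Agent.Lib.BasicSteiner.WittFix.F5612

open Cfsg.Agent.Lib.BasicSteiner.Search Cfsg.Agent.Lib.BasicSteiner.SearchFix

/-- The blocks of the model, as masks. -/
def refList : List ℕ := [2978, 3426, 1762, 3730, 1874, 2514, 1458, 2674, 3466, 3658, 970, 1834, 2282, 2842, 1242, 3130, 698, 378, 1926, 2886, 3270, 3622, 486, 3350, 726, 822, 2230, 1142, 2702, 1358, 2350, 1198, 622, 1566, 414, 2142, 1953, 3681, 2529, 3473, 2897, 1745, 2737, 1393, 2953, 1865, 3273, 3369, 745, 3609, 473, 825, 1209, 2169, 3717, 3397, 965, 2853, 1253, 1813, 2261, 3125, 437, 629, 1421, 2637, 2221, 1581, 365, 2333, 669, 1117, 3492, 1892, 2788, 2964, 3668, 1492, 1716, 2420, 3852, 1740, 2508, 940, 3180, 3228, 860, 2620, 1340,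 252, 3843, 2755, 1475, 3235, 867, 915, 2355, 1587, 3155, 243, 1675, 2379, 2603, 427, 1131, 2203, 1307, 603, 4032, 3888, 3312, 1008, 3752, 2920, 1512, 1944, 3416, 2776, 2488, 1656, 2439, 1319, 679, 1607, 2151, 2583, 3087, 1175, 783, 343, 207, 63]

/-- The search tree. -/
def cert : FTree := (.pick 31 (.cons 31 (.newpt (.pick 79 (.cons 79 (.pick 87 (.cons 87 (.pick 271 (.cons 271 (.pick 151 (.cons 151 (.pick 1039 (.cons 1039 (.pick 535 (.cons 2583 (.pick 2119 (.cons 2151 (.pick 583 (.cons 1607 (.pick 551 (.cons 679 (.pick 295 (.cons 1319 (.pick 391 (.cons 2439 (.pick 632 (.cons 1656 (.pick 440 (.cons 2488 (.pick 728 (.cons 2776 (.pick 1368 (.cons 3416 (.pick 920 (.cons 1944 (.pick 488 (.cons 1512 (.pick 872 (.cons 2920 (.pick 1704 (.cons 3752 (.pick 496 (.cons 1008 (.pick 1264 (.cons 3312 (.pick 1840 (.cons 3888 (.pick 1984 (.cons 4032 (.pick 91 (.cons 603 (.pick 1051 (.cons 1307 (.pick 155 (.cons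 2203 (.pick 1099 (.cons 1131 (.pick 171 (.cons 427 (.pick 555 (.cons 2603 (.pick 331 (.cons 2379 (.pick 651 (.cons 1675 (.pick 115 (.cons 243 (.pick 1107 (.cons 3155 (.pick 1075 (.cons 1587 (.pick 307 (.cons 2355 (.pick 403 (.cons 915 (.pick 355 (.cons 867 (.pick 1187 (.cons 3235 (.pick 451 (.cons 1475 (.pick 707 (.cons 2755 (.pick 1795 (.cons 3843 (.pick 124 (.cons 252 (.pick 316 (.cons 1340 (.pick 572 (.cons 2620 (.pick 348 (.cons 860 (.pick 1180 (.cons 3228 (.pick 1132 (.cons 3180 (.pick 428 (.cons 940 (.pick 460 (.cons 2508 (.pick 716 (.cons 1740 (.pick 1804 (.cons 3852 (.pick 372 (.cons 2420 (.pick 692 (.cons 1716 (.pick 468 (.cons 1492 (.pick 1620 (.cons 3668 (.pick 916 (.cons 2964 (.pick 740 (.cons 2788 (.pick 868 (.cons 1892 (.pick 1444 (.cons 3492 (.pick 93 (.cons 1117 (.pick 541 (.cons 669 (.pick 285 (.cons 2333 (.pick 301 (.cons 365 (.pick 557 (.cons 1581 (.pick 173 (.cons 2221 (.pick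 589 (.cons 2637 (.pick 397 (.cons 1421 (.pick 117 (.cons 629 (.pick 181 (.cons 437 (.pick 1077 (.cons 3125 (.pick 213 (.cons 2261 (.pick 789 (.cons 1813 (.pick 229 (.cons 1253 (.pick 805 (.cons 2853 (.pick 453 (.cons 965 (.pick 1349 (.cons 3397 (.pick 1669 (.cons 3717 (.pick 121 (.cons 2169 (.pick 185 (.cons 1209 (.pick 313 (.cons 825 (.pick 217 (.cons 473 (.pick 1561 (.cons 3609 (.pick 233 (.cons 745 (.pick 1321 (.cons 3369 (.pick 1225 (.cons 3273 (.pick 841 (.cons 1865 (.pick 905 (.cons 2953 (.pick 369 (.cons 1393 (.pick 689 (.cons 2737 (.pick 721 (.cons 1745 (.pick 849 (.cons 2897 (.pick 1425 (.cons 3473 (.pick 481 (.cons 2529 (.pick 1633 (.cons 3681 (.pick 929 (.cons 1953 (.pick 94 (.cons 2142 (.pick 158 (.cons 414 (.pick 542 (.cons 1566 (.pick 110 (.cons 622 (.pick 174 (.cons 1198 (.pick 302 (.cons 2350 (.pick 334 (.cons 1358 (.pick 654 (.cons 2702 (.pick 118 (.cons 1142 (.pick 182 (.cons 2230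 (.pick 310 (.cons 822 (.pick 214 (.cons 726 (.pick 1302 (.cons 3350 (.pick 230 (.cons 486 (.pick 1574 (.cons 3622 (.pick 1222 (.cons 3270 (.pick 838 (.cons 2886 (.pick 902 (.cons 1926 (.pick 122 (.cons 378 (.pick 186 (.cons 698 (.pick 1082 (.cons 3130 (.pick 218 (.cons 1242 (.pick 794 (.cons 2842 (.pick 234 (.cons 2282 (.pick 810 (.cons 1834 (.pick 458 (.cons 970 (.pick 1610 (.cons 3658 (.pick 1418 (.cons 3466 (.pick 626 (.cons 2674 (.pick 434 (.cons 1458 (.pick 466 (.cons 2514 (.pick 850 (.cons 1874 (.pick 1682 (.cons 3730 (.pick 738 (.cons 1762 (.pick 1378 (.cons 3426 (.pick 930 (.cons 2978 (.leaf [0,1,2,3,4,5,6,7,8,9,10,11]) .nil)) .nil)) .nil)) .nil)) .nil)) .nil)) .nil)) .nil)) .nil)) .nil)) .nil)) .nil)) .nil)) .nil)) .nil)) .nil)) .nil)) .nil)) .nil)) .nil)) .nil)) .nil)) .nil)) .nil)) .nil)) .nil)) .nil)) .nil)) .nil)) .nil)) .nil)) .nil)) .nil)) .nil)) .nil)) .nil)) .nil)) .nil)) .nil))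 .nil)) .nil)) .nil)) .nil)) .nil)) .nil)) .nil)) .nil)) .nil)) .nil)) .nil)) .nil)) .nil)) .nil)) .nil)) .nil)) .nil)) .nil)) .nil)) .nil)) .nil)) .nil)) .nil)) .nil)) .nil)) .nil)) .nil)) .nil)) .nil)) .nil)) .nil)) .nil)) (.cons 2141 (.pick 285 (.cons 413 (.pick 541 (.cons 1565 (.pick 557 (.cons 621 (.pick 301 (.cons 2349 (.pick 173 (.cons 1197 (.pick 333 (.cons 1357 (.pick 653 (.cons 2701 (.pick 117 (.cons 1141 (.pick 181 (.cons 2229 (.pick 309 (.cons 821 (.pick 213 (.cons 725 (.pick 1301 (.cons 3349 (.pick 229 (.cons 485 (.pick 1573 (.cons 3621 (.pick 1221 (.cons 3269 (.pick 837 (.cons 2885 (.pick 901 (.cons 1925 (.pick 121 (.cons 377 (.pick 185 (.cons 697 (.pick 1081 (.cons 3129 (.pick 217 (.cons 1241 (.pick 793 (.cons 2841 (.pick 233 (.cons 2281 (.pick 809 (.cons 1833 (.pick 457 (.cons 969 (.pick 1609 (.cons 3657 (.pick 1417 (.cons 3465 (.pick 625 (.cons 2673 (.pick 433 (.cons 1457 (.pick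 465 (.cons 2513 (.pick 849 (.cons 1873 (.pick 1681 (.cons 3729 (.pick 737 (.cons 1761 (.pick 1377 (.cons 3425 (.pick 929 (.cons 2977 (.pick 94 (.cons 1118 (.pick 158 (.cons 670 (.pick 286 (.cons 2334 (.pick 110 (.cons 366 (.pick 174 (.cons 2222 (.pick 558 (.cons 1582 (.pick 590 (.cons 2638 (.pick 398 (.cons 1422 (.pick 118 (.cons 630 (.pick 182 (.cons 438 (.pick 1078 (.cons 3126 (.pick 214 (.cons 2262 (.pick 790 (.cons 1814 (.pick 230 (.cons 1254 (.pick 806 (.cons 2854 (.pick 454 (.cons 966 (.pick 1350 (.cons 3398 (.pick 1670 (.cons 3718 (.pick 122 (.cons 2170 (.pick 186 (.cons 1210 (.pick 314 (.cons 826 (.pick 218 (.cons 474 (.pick 1562 (.cons 3610 (.pick 234 (.cons 746 (.pick 1322 (.cons 3370 (.pick 1226 (.cons 3274 (.pick 842 (.cons 1866 (.pick 906 (.cons 2954 (.pick 370 (.cons 1394 (.pick 690 (.cons 2738 (.pick 722 (.cons 1746 (.pick 850 (.cons 2898 (.pick 1426 (.cons 3474 (.pick 482 (.cons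 2530 (.pick 1634 (.cons 3682 (.pick 930 (.cons 1954 (.leaf [0,1,2,3,4,5,7,6,10,11,8,9]) .nil)) .nil)) .nil)) .nil)) .nil)) .nil)) .nil)) .nil)) .nil)) .nil)) .nil)) .nil)) .nil)) .nil)) .nil)) .nil)) .nil)) .nil)) .nil)) .nil)) .nil)) .nil)) .nil)) .nil)) .nil)) .nil)) .nil)) .nil)) .nil)) .nil)) .nil)) .nil)) .nil)) .nil)) .nil)) .nil)) .nil)) .nil)) .nil)) .nil)) .nil)) .nil)) .nil)) .nil)) .nil)) .nil)) .nil)) .nil)) .nil)) .nil)) .nil)) .nil)) .nil)) .nil)) .nil)) .nil)) .nil)) .nil)) .nil)) .nil)) .nil)) .nil)) .nil)) .nil)) .nil)) .nil)) .nil)) .nil)) .nil)) .nil)) .nil)) .nil))) .nil)) .nil)) .nil)) .nil)) .nil)) .nil)) .nil)) .nil)) .nil)) .nil)) .nil)) .nil)) .nil)) .nil)) .nil)) .nil)) .nil)) .nil)) .nil)) .nil)) .nil)) .nil)) .nil)) .nil)) .nil)) .nil)) .nil)) .nil)) .nil)) .nil)) .nil)) .nil)) .nil)) .nil)) .nil)) (.cons 1115 (.pick 539 (.cons 667 (.pick 283 (.cons 2331 (.pick 331 (.cons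 363 (.pick 587 (.cons 2635 (.pick 555 (.cons 1579 (.pick 171 (.cons 2219 (.pick 395 (.cons 1419 (.pick 1075 (.cons 3123 (.pick 595 (.cons 627 (.pick 179 (.cons 435 (.pick 211 (.cons 2259 (.pick 787 (.cons 1811 (.pick 227 (.cons 1251 (.pick 803 (.cons 2851 (.pick 451 (.cons 963 (.pick 1347 (.cons 3395 (.pick 1667 (.cons 3715 (.pick 124 (.cons 380 (.pick 188 (.cons 700 (.pick 1084 (.cons 3132 (.pick 220 (.cons 1244 (.pick 796 (.cons 2844 (.pick 236 (.cons 2284 (.pick 812 (.cons 1836 (.pick 460 (.cons 972 (.pick 1612 (.cons 3660 (.pick 1420 (.cons 3468 (.pick 628 (.cons 2676 (.pick 436 (.cons 1460 (.pick 468 (.cons 2516 (.pick 852 (.cons 1876 (.pick 1684 (.cons 3732 (.pick 740 (.cons 1764 (.pick 1380 (.cons 3428 (.pick 932 (.cons 2980 (.pick 93 (.cons 605 (.pick 1053 (.cons 1309 (.pick 157 (.cons 2205 (.pick 109 (.cons 1133 (.pick 173 (.cons 429 (.pick 557 (.cons 2605 (.pick 333 (.cons 2381 (.pick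 653 (.cons 1677 (.pick 117 (.cons 245 (.pick 1077 (.cons 1589 (.pick 309 (.cons 2357 (.pick 1109 (.cons 3157 (.pick 405 (.cons 917 (.pick 357 (.cons 869 (.pick 1189 (.cons 3237 (.pick 453 (.cons 1477 (.pick 709 (.cons 2757 (.pick 1797 (.cons 3845 (.pick 121 (.cons 2169 (.pick 185 (.cons 1209 (.pick 313 (.cons 825 (.pick 217 (.cons 473 (.pick 1561 (.cons 3609 (.pick 233 (.cons 745 (.pick 1321 (.cons 3369 (.pick 1225 (.cons 3273 (.pick 841 (.cons 1865 (.pick 905 (.cons 2953 (.pick 369 (.cons 1393 (.pick 689 (.cons 2737 (.pick 721 (.cons 1745 (.pick 849 (.cons 2897 (.pick 1425 (.cons 3473 (.pick 481 (.cons 2529 (.pick 1633 (.cons 3681 (.pick 929 (.cons 1953 (.pick 94 (.cons 2142 (.pick 158 (.cons 414 (.pick 542 (.cons 1566 (.pick 110 (.cons 622 (.pick 174 (.cons 1198 (.pick 302 (.cons 2350 (.pick 334 (.cons 1358 (.pick 654 (.cons 2702 (.pick 118 (.cons 1142 (.pick 182 (.cons 2230 (.pick 310 (.cons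 822 (.pick 214 (.cons 726 (.pick 1302 (.cons 3350 (.pick 230 (.cons 486 (.pick 1574 (.cons 3622 (.pick 1222 (.cons 3270 (.pick 838 (.cons 2886 (.pick 902 (.cons 1926 (.pick 122 (.cons 250 (.pick 314 (.cons 1338 (.pick 570 (.cons 2618 (.pick 346 (.cons 858 (.pick 1178 (.cons 3226 (.pick 1130 (.cons 3178 (.pick 426 (.cons 938 (.pick 458 (.cons 2506 (.pick 714 (.cons 1738 (.pick 1802 (.cons 3850 (.pick 370 (.cons 2418 (.pick 690 (.cons 1714 (.pick 466 (.cons 1490 (.pick 1618 (.cons 3666 (.pick 914 (.cons 2962 (.pick 738 (.cons 2786 (.pick 866 (.cons 1890 (.pick 1442 (.cons 3490 (.leaf [0,1,2,3,4,5,11,10,9,8,7,6]) .nil)) .nil)) .nil)) .nil)) .nil)) .nil)) .nil)) .nil)) .nil)) .nil)) .nil)) .nil)) .nil)) .nil)) .nil)) .nil)) .nil)) .nil)) .nil)) .nil)) .nil)) .nil)) .nil)) .nil)) .nil)) .nil)) .nil)) .nil)) .nil)) .nil)) .nil)) .nil)) .nil)) .nil)) .nil)) .nil)) .nil)) .nil)) .nil)) .nil)) .nil)) .nil))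 .nil)) .nil)) .nil)) .nil)) .nil)) .nil)) .nil)) .nil)) .nil)) .nil)) .nil)) .nil)) .nil)) .nil)) .nil)) .nil)) .nil)) .nil)) .nil)) .nil)) .nil)) .nil)) .nil)) .nil)) .nil)) .nil)) .nil)) .nil)) .nil)) (.cons 2141 (.pick 157 (.cons 413 (.pick 541 (.cons 1565 (.pick 173 (.cons 1197 (.pick 109 (.cons 621 (.pick 301 (.cons 2349 (.pick 333 (.cons 1357 (.pick 653 (.cons 2701 (.pick 309 (.cons 821 (.pick 1077 (.cons 1141 (.pick 181 (.cons 2229 (.pick 213 (.cons 725 (.pick 1301 (.cons 3349 (.pick 229 (.cons 485 (.pick 1573 (.cons 3621 (.pick 1221 (.cons 3269 (.pick 837 (.cons 2885 (.pick 901 (.cons 1925 (.pick 121 (.cons 249 (.pick 313 (.cons 1337 (.pick 569 (.cons 2617 (.pick 345 (.cons 857 (.pick 1177 (.cons 3225 (.pick 1129 (.cons 3177 (.pick 425 (.cons 937 (.pick 457 (.cons 2505 (.pick 713 (.cons 1737 (.pick 1801 (.cons 3849 (.pick 369 (.cons 2417 (.pick 689 (.cons 1713 (.pick 465 (.cons 1489 (.pick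 1617 (.cons 3665 (.pick 913 (.cons 2961 (.pick 737 (.cons 2785 (.pick 865 (.cons 1889 (.pick 1441 (.cons 3489 (.pick 94 (.cons 606 (.pick 158 (.cons 2206 (.pick 286 (.cons 1310 (.pick 110 (.cons 1134 (.pick 174 (.cons 430 (.pick 558 (.cons 2606 (.pick 334 (.cons 2382 (.pick 654 (.cons 1678 (.pick 118 (.cons 246 (.pick 310 (.cons 2358 (.pick 566 (.cons 1590 (.pick 1110 (.cons 3158 (.pick 406 (.cons 918 (.pick 358 (.cons 870 (.pick 1190 (.cons 3238 (.pick 454 (.cons 1478 (.pick 710 (.cons 2758 (.pick 1798 (.cons 3846 (.pick 122 (.cons 2170 (.pick 186 (.cons 1210 (.pick 314 (.cons 826 (.pick 218 (.cons 474 (.pick 1562 (.cons 3610 (.pick 234 (.cons 746 (.pick 1322 (.cons 3370 (.pick 1226 (.cons 3274 (.pick 842 (.cons 1866 (.pick 906 (.cons 2954 (.pick 370 (.cons 1394 (.pick 690 (.cons 2738 (.pick 722 (.cons 1746 (.pick 850 (.cons 2898 (.pick 1426 (.cons 3474 (.pick 482 (.cons 2530 (.pick 1634 (.cons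 3682 (.pick 930 (.cons 1954 (.leaf [0,1,2,3,4,5,10,11,7,6,9,8]) .nil)) .nil)) .nil)) .nil)) .nil)) .nil)) .nil)) .nil)) .nil)) .nil)) .nil)) .nil)) .nil)) .nil)) .nil)) .nil)) .nil)) .nil)) .nil)) .nil)) .nil)) .nil)) .nil)) .nil)) .nil)) .nil)) .nil)) .nil)) .nil)) .nil)) .nil)) .nil)) .nil)) .nil)) .nil)) .nil)) .nil)) .nil)) .nil)) .nil)) .nil)) .nil)) .nil)) .nil)) .nil)) .nil)) .nil)) .nil)) .nil)) .nil)) .nil)) .nil)) .nil)) .nil)) .nil)) .nil)) .nil)) .nil)) .nil)) .nil)) .nil)) .nil)) .nil)) .nil)) .nil)) .nil)) .nil)) .nil)) .nil)) .nil)) .nil)) .nil))) .nil)) .nil)) .nil)) .nil)) .nil)) .nil)) .nil)) .nil)) .nil)) .nil)) .nil)) .nil)) .nil)) .nil)) .nil)) .nil)) .nil)) .nil)) .nil)) .nil)) .nil)) .nil)) .nil)) .nil)) .nil)) .nil)) .nil)) .nil)) .nil)) .nil)) .nil)) .nil)) .nil)) .nil)) .nil)) (.cons 2139 (.pick 587 (.cons 619 (.pick 1067 (.cons 1195 (.pick 299 (.cons 2347 (.pick 331 (.cons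 1355 (.pick 283 (.cons 411 (.pick 539 (.cons 1563 (.pick 651 (.cons 2699 (.pick 307 (.cons 819 (.pick 595 (.cons 723 (.pick 115 (.cons 1139 (.pick 179 (.cons 2227 (.pick 1299 (.cons 3347 (.pick 227 (.cons 483 (.pick 1571 (.cons 3619 (.pick 1219 (.cons 3267 (.pick 835 (.cons 2883 (.pick 899 (.cons 1923 (.pick 124 (.cons 2172 (.pick 188 (.cons 1212 (.pick 316 (.cons 828 (.pick 220 (.cons 476 (.pick 1564 (.cons 3612 (.pick 236 (.cons 748 (.pick 1324 (.cons 3372 (.pick 1228 (.cons 3276 (.pick 844 (.cons 1868 (.pick 908 (.cons 2956 (.pick 372 (.cons 1396 (.pick 692 (.cons 2740 (.pick 724 (.cons 1748 (.pick 852 (.cons 2900 (.pick 1428 (.cons 3476 (.pick 484 (.cons 2532 (.pick 1636 (.cons 3684 (.pick 932 (.cons 1956 (.pick 93 (.cons 605 (.pick 157 (.cons 2205 (.pick 285 (.cons 1309 (.pick 173 (.cons 429 (.pick 109 (.cons 1133 (.pick 557 (.cons 2605 (.pick 333 (.cons 2381 (.pick 653 (.cons 1677 (.pick 117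 (.cons 245 (.pick 309 (.cons 2357 (.pick 565 (.cons 1589 (.pick 1109 (.cons 3157 (.pick 405 (.cons 917 (.pick 357 (.cons 869 (.pick 1189 (.cons 3237 (.pick 453 (.cons 1477 (.pick 709 (.cons 2757 (.pick 1797 (.cons 3845 (.pick 121 (.cons 377 (.pick 185 (.cons 697 (.pick 1081 (.cons 3129 (.pick 217 (.cons 1241 (.pick 793 (.cons 2841 (.pick 233 (.cons 2281 (.pick 809 (.cons 1833 (.pick 457 (.cons 969 (.pick 1609 (.cons 3657 (.pick 1417 (.cons 3465 (.pick 625 (.cons 2673 (.pick 433 (.cons 1457 (.pick 465 (.cons 2513 (.pick 849 (.cons 1873 (.pick 1681 (.cons 3729 (.pick 737 (.cons 1761 (.pick 1377 (.cons 3425 (.pick 929 (.cons 2977 (.pick 94 (.cons 1118 (.pick 158 (.cons 670 (.pick 286 (.cons 2334 (.pick 110 (.cons 366 (.pick 174 (.cons 2222 (.pick 558 (.cons 1582 (.pick 590 (.cons 2638 (.pick 398 (.cons 1422 (.pick 118 (.cons 630 (.pick 182 (.cons 438 (.pick 1078 (.cons 3126 (.pick 214 (.cons 2262 (.pick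 790 (.cons 1814 (.pick 230 (.cons 1254 (.pick 806 (.cons 2854 (.pick 454 (.cons 966 (.pick 1350 (.cons 3398 (.pick 1670 (.cons 3718 (.pick 122 (.cons 250 (.pick 314 (.cons 1338 (.pick 570 (.cons 2618 (.pick 346 (.cons 858 (.pick 1178 (.cons 3226 (.pick 1130 (.cons 3178 (.pick 426 (.cons 938 (.pick 458 (.cons 2506 (.pick 714 (.cons 1738 (.pick 1802 (.cons 3850 (.pick 370 (.cons 2418 (.pick 690 (.cons 1714 (.pick 466 (.cons 1490 (.pick 1618 (.cons 3666 (.pick 914 (.cons 2962 (.pick 738 (.cons 2786 (.pick 866 (.cons 1890 (.pick 1442 (.cons 3490 (.leaf [0,1,2,3,4,5,9,8,11,10,6,7]) .nil)) .nil)) .nil)) .nil)) .nil)) .nil)) .nil)) .nil)) .nil)) .nil)) .nil)) .nil)) .nil)) .nil)) .nil)) .nil)) .nil)) .nil)) .nil)) .nil)) .nil)) .nil)) .nil)) .nil)) .nil)) .nil)) .nil)) .nil)) .nil)) .nil)) .nil)) .nil)) .nil)) .nil)) .nil)) .nil)) .nil)) .nil)) .nil)) .nil)) .nil)) .nil)) .nil)) .nil)) .nil)) .nil)) .nil))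 .nil)) .nil)) .nil)) .nil)) .nil)) .nil)) .nil)) .nil)) .nil)) .nil)) .nil)) .nil)) .nil)) .nil)) .nil)) .nil)) .nil)) .nil)) .nil)) .nil)) .nil)) .nil)) .nil)) .nil)) (.cons 1117 (.pick 285 (.cons 2333 (.pick 157 (.cons 669 (.pick 109 (.cons 365 (.pick 173 (.cons 2221 (.pick 557 (.cons 1581 (.pick 589 (.cons 2637 (.pick 397 (.cons 1421 (.pick 309 (.cons 437 (.pick 117 (.cons 629 (.pick 1077 (.cons 3125 (.pick 213 (.cons 2261 (.pick 789 (.cons 1813 (.pick 229 (.cons 1253 (.pick 805 (.cons 2853 (.pick 453 (.cons 965 (.pick 1349 (.cons 3397 (.pick 1669 (.cons 3717 (.pick 121 (.cons 249 (.pick 313 (.cons 1337 (.pick 569 (.cons 2617 (.pick 345 (.cons 857 (.pick 1177 (.cons 3225 (.pick 1129 (.cons 3177 (.pick 425 (.cons 937 (.pick 457 (.cons 2505 (.pick 713 (.cons 1737 (.pick 1801 (.cons 3849 (.pick 369 (.cons 2417 (.pick 689 (.cons 1713 (.pick 465 (.cons 1489 (.pick 1617 (.cons 3665 (.pick 913 (.cons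 2961 (.pick 737 (.cons 2785 (.pick 865 (.cons 1889 (.pick 1441 (.cons 3489 (.pick 94 (.cons 606 (.pick 158 (.cons 2206 (.pick 286 (.cons 1310 (.pick 110 (.cons 1134 (.pick 174 (.cons 430 (.pick 558 (.cons 2606 (.pick 334 (.cons 2382 (.pick 654 (.cons 1678 (.pick 118 (.cons 246 (.pick 310 (.cons 2358 (.pick 566 (.cons 1590 (.pick 1110 (.cons 3158 (.pick 406 (.cons 918 (.pick 358 (.cons 870 (.pick 1190 (.cons 3238 (.pick 454 (.cons 1478 (.pick 710 (.cons 2758 (.pick 1798 (.cons 3846 (.pick 122 (.cons 378 (.pick 186 (.cons 698 (.pick 1082 (.cons 3130 (.pick 218 (.cons 1242 (.pick 794 (.cons 2842 (.pick 234 (.cons 2282 (.pick 810 (.cons 1834 (.pick 458 (.cons 970 (.pick 1610 (.cons 3658 (.pick 1418 (.cons 3466 (.pick 626 (.cons 2674 (.pick 434 (.cons 1458 (.pick 466 (.cons 2514 (.pick 850 (.cons 1874 (.pick 1682 (.cons 3730 (.pick 738 (.cons 1762 (.pick 1378 (.cons 3426 (.pick 930 (.cons 2978 (.leaf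 [0,1,2,3,4,5,8,9,6,7,11,10]) .nil)) .nil)) .nil)) .nil)) .nil)) .nil)) .nil)) .nil)) .nil)) .nil)) .nil)) .nil)) .nil)) .nil)) .nil)) .nil)) .nil)) .nil)) .nil)) .nil)) .nil)) .nil)) .nil)) .nil)) .nil)) .nil)) .nil)) .nil)) .nil)) .nil)) .nil)) .nil)) .nil)) .nil)) .nil)) .nil)) .nil)) .nil)) .nil)) .nil)) .nil)) .nil)) .nil)) .nil)) .nil)) .nil)) .nil)) .nil)) .nil)) .nil)) .nil)) .nil)) .nil)) .nil)) .nil)) .nil)) .nil)) .nil)) .nil)) .nil)) .nil)) .nil)) .nil)) .nil)) .nil)) .nil)) .nil)) .nil)) .nil)) .nil)) .nil)) .nil))) .nil)) .nil)) .nil)) .nil)) .nil)) .nil)) .nil)) .nil)) .nil)) .nil)) .nil)) .nil)) .nil)) .nil)) .nil)) .nil)) .nil)) .nil)) .nil)) .nil)) .nil)) .nil)) .nil)) .nil)) .nil)) .nil)) .nil)) .nil)) .nil)) .nil)) .nil)) .nil)) .nil)) .nil)) .nil)) .nil)))) .nil)) .nil)) .nil)) .nil)) .nil)) .nil)) .nil)) .nil)) .nil)) .nil)) .nil)) .nil)) .nil)) .nil)) .nil)) .nil)) .nil)) .nil))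 .nil)) (.cons 663 (.pick 103 (.cons 103 (.pick 1039 (.cons 1039 (.pick 1047 .nil) .nil)) (.cons 615 (.pick 167 (.cons 167 (.pick 1039 (.cons 1039 (.pick 1047 .nil) .nil)) (.cons 423 (.pick 91 (.cons 91 (.pick 1039 (.cons 1039 (.pick 1047 .nil) .nil)) (.cons 603 (.pick 93 (.cons 93 (.pick 1039 (.cons 1039 (.pick 1047 .nil) .nil)) .nil)) .nil))) .nil))) .nil))) .nil))) .nil)) .nil)) .nil))) .nil))

theorem chk_cert : chkF 12 5 6 29 4 5 refList cert 5 [] = true := by decide +kernel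

theorem ref_nodup : refList.Nodup := by decide +kernel

theorem ref_lt : ∀ x ∈ refList, x < 2 ^ 12 := by decide +kernel

theorem ref_card : refList.length * Nat.choose 6 5 = Nat.choose 12 5 := by decide +kernel

theorem rigid : rigidCheck 12 5 refList = true := by decide +kernel

variable {α : Type*} [DecidableEq α] [Fintype α] {B : Set (Finset α)}

theorem sharp (hα : Fintype.card α = 12) (hB : Cfsg.IsSteinerSystem 5 6 B)
    (hI : ∀ b ∈ B, ∀ c ∈ B, b ≠ c → allowedB 29 (b ∩ c).card = true) :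
    MulAction.IsMultiplyPretransitive (Cfsg.setSystemAut B) α 5 ∧
      ∀ x : Fin 5 ↪ α, MulAction.stabilizer (Cfsg.setSystemAut B) x = ⊥ :=
  sharp_of_chk hα (by norm_num) (by norm_num) (by norm_num) hB hI (allowed_le (by norm_num)) (by decide +kernel) ref_card ref_nodup
    ref_lt (tr := cert) rfl chk_cert rigid

end Cfsg.Agent.Lib.BasicSteiner.WittFix.F5612
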